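import Groth.Agent.FlatLocal.StalkCrit
import Groth.Agent.FlatCrit.Tor
import Mathlib.AlgebraicGeometry.ResidueField
import Mathlib.AlgebraicGeometry.Noetherian
import Mathlib.FieldTheory.IsSepClosed
import Mathlib.RingTheory.Filtration

/-!
# Infinitesimal criteria at a point with trivial residue extension
-/

set_option autoImplicit false
set_option linter.style.haveILetI false
set_option backward.isDefEq.respectTransparency.types false
set_option backward.isDefEq.respectTransparency false
universe u

open TensorProduct IsLocalRing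

namespace Groth.Agent.H10Cons

section Alg

variable {R S : Type u} [CommRing R] [CommRing S] [IsLocalRing R] [IsLocalRing S] [Algebra R S]
  [IsLocalHom (algebraMap R S)]

/-- Surjectivity on all infinitesimal levels from an unramified point with trivial residue extension. -/
theorem surjective_levels (hres : ∀ s : S, ∃ r : R, s - algebraMap R S r ∈ maximalIdeal S)
    (hm : (maximalIdeal R).map (algebraMap R S) = maximalIdeal S) (n : ℕ) :
    ∀ s : S, ∃ r : R, s - algebraMap R S r ∈ maximalIdeal S ^ n := by
  induction n with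
  | zero => exact fun s => ⟨0, by simp⟩
  | succ n ih =>
    intro s
    obtain ⟨r, hr⟩ := ih s
    have hmn : maximalIdeal S ^ n = Ideal.span (algebraMap R S '' (maximalIdeal R ^ n : Ideal R)) := by
      rw [← hm, ← Ideal.map_pow]; rfl
    suffices key : ∀ t ∈ Ideal.span (algebraMap R S '' (maximalIdeal R ^ n : Ideal R)),
        ∃ a : R, t - algebraMap R S a ∈ maximalIdeal S ^ (n + 1) by
      obtain ⟨a, ha⟩ := key _ (hmn ▸ hr)
      exact ⟨r + a, by rwa [map_add, ← sub_sub]⟩
    intro t ht
    induction ht using Submodule.span_induction with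
    | mem t ht =>
      obtain ⟨a, -, rfl⟩ := ht
      exact ⟨a, by simp⟩
    | zero => exact ⟨0, by simp⟩
    | add a b _ _ ha hb =>
      obtain ⟨⟨a', ha⟩, ⟨b', hb⟩⟩ := ha, hb
      exact ⟨a' + b', by rw [map_add, add_sub_add_comm]; exact add_mem ha hb⟩
    | smul c a haI ha =>
      obtain ⟨a', ha⟩ := ha
      obtain ⟨c', hc⟩ := hres c
      refine ⟨c' * a', ?_⟩
      have h1 : (c - algebraMap R S c') * a ∈ maximalIdeal S ^ (n + 1) := by
        rw [pow_succ']
        exact Ideal.mul_mem_mul hc (hmn ▸ haI)
      rw [smul_eq_mul, map_mul]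
      convert Ideal.add_mem _ h1 (Ideal.mul_mem_left _ (algebraMap R S c') ha) using 1
      ring

/-- Surjectivity on the first two levels gives an unramified point. -/
theorem map_maximalIdeal_eq_of_levels [IsNoetherianRing S]
    (h : ∀ s : S, ∃ r : R, s - algebraMap R S r ∈ maximalIdeal S ^ 2) :
    (maximalIdeal R).map (algebraMap R S) = maximalIdeal S := by
  refine le_antisymm (Ideal.map_le_iff_le_comap.mpr fun r hr => map_nonunit (algebraMap R S) r hr) ?_
  refine Submodule.le_of_le_smul_of_le_jacobson_bot (I := maximalIdeal S) (IsNoetherian.noetherian _)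
    (maximalIdeal_le_jacobson ⊥) fun s hs => ?_
  obtain ⟨r, hr⟩ := h s
  have hr' : algebraMap R S r ∈ maximalIdeal S := by
    have h2 : s - algebraMap R S r ∈ maximalIdeal S := Ideal.pow_le_self two_ne_zero hr
    simpa using sub_mem hs h2
  refine Submodule.mem_sup.mpr ⟨algebraMap R S r, Ideal.mem_map_of_mem _ ?_, s - algebraMap R S r,
    by rw [smul_eq_mul, ← pow_two]; exact hr, by ring⟩
  exact (mem_maximalIdeal r).mpr fun hu => (mem_maximalIdeal _).mp hr' (hu.map (algebraMap R S))

/-- Bijectivity on all levels gives flatness. -/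
theorem flat_of_levels [IsNoetherianRing R] [IsNoetherianRing S]
    (hs : ∀ n, ∀ s : S, ∃ r : R, s - algebraMap R S r ∈ maximalIdeal S ^ n)
    (hk : ∀ n, ∀ r : R, algebraMap R S r ∈ maximalIdeal S ^ n → r ∈ maximalIdeal R ^ n) :
    Module.Flat R S := by
  have hm := map_maximalIdeal_eq_of_levels (hs 2)
  refine FlatCrit.flat_of_quotFlat_pow (S := S) (maximalIdeal R) (hm.le.trans (maximalIdeal_le_jacobson ⊥))
    fun n A B _ _ _ _ i hB hi => ?_
  have hA : ∀ r ∈ maximalIdeal R ^ n, ∀ a : A, r • a = 0 := fun r hr a =>
    hi (by rw [map_smul, map_zero, hB r hr])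
  choose c hc using hs n
  have hcong : ∀ {x y : R}, algebraMap R S x - algebraMap R S y ∈ maximalIdeal S ^ n → ∀ b : B, x • b = y • b :=
    fun h b => sub_eq_zero.mp (by rw [← sub_smul]; exact hB _ (hk n _ (by rw [map_sub]; exact h)) b)
  let L : S →ₗ[R] B →ₗ[R] B :=
    { toFun := fun s => c s • LinearMap.id
      map_add' := fun s t => LinearMap.ext fun b => by
        show c (s + t) • b = c s • b + c t • b
        rw [← add_smul]
        refine hcong ?_ b
        rw [map_add]
        convert sub_mem (add_mem (hc s) (hc t)) (hc (s + t)) using 1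
        ring
      map_smul' := fun r s => LinearMap.ext fun b => by
        show c (r • s) • b = r • c s • b
        rw [smul_smul]
        refine hcong ?_ b
        rw [map_mul]
        convert sub_mem (Ideal.mul_mem_left _ (algebraMap R S r) (hc s)) (hc (r • s)) using 1
        rw [Algebra.smul_def]
        ring }
  let ψ : B ⊗[R] S →ₗ[R] B := TensorProduct.lift L.flip
  have hA1 : ∀ x : A ⊗[R] S, ∃ a : A, x = a ⊗ₜ[R] (1 : S) := fun x => by
    induction x with
    | zero => exact ⟨0, by simp⟩
    | add p q hp hq =>
      obtain ⟨⟨a, rfl⟩, ⟨b, rfl⟩⟩ := hp, hq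
      exact ⟨a + b, (add_tmul _ _ _).symm⟩
    | tmul a s =>
      refine ⟨c s • a, ?_⟩
      have h1 : ∀ t ∈ maximalIdeal S ^ n, a ⊗ₜ[R] t = 0 := by
        intro t ht
        rw [← hm, ← Ideal.map_pow] at ht
        suffices h : ∀ p ∈ Ideal.span (algebraMap R S '' (maximalIdeal R ^ n : Ideal R)), ∀ s' : S, a ⊗ₜ[R] (s' * p) = 0 by
          simpa using h t ht 1
        clear ht t
        intro p hp
        induction hp using Submodule.span_induction with
        | mem t h =>
          obtain ⟨r, hr, rfl⟩ := h
          intro s'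
          rw [mul_comm, ← Algebra.smul_def, ← smul_tmul, hA r hr, zero_tmul]
        | zero => simp
        | add p q _ _ hp hq => intro s'; rw [mul_add, tmul_add, hp s', hq s', add_zero]
        | smul d p _ hp => intro s'; rw [smul_eq_mul, ← mul_assoc]; exact hp _
      have h2 := h1 _ (hc s)
      rw [tmul_sub, sub_eq_zero] at h2
      rw [h2, Algebra.algebraMap_eq_smul_one, smul_tmul]
  rw [injective_iff_map_eq_zero]
  intro x hx
  obtain ⟨a, rfl⟩ := hA1 x
  have h3 := congrArg ψ hx
  rw [LinearMap.rTensor_tmul, map_zero] at h3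
  change c 1 • i a = 0 at h3
  have h4 : (1 : R) • i a = c 1 • i a := hcong (by rw [map_one]; exact hc 1) _
  rw [one_smul] at h4
  rw [hi (show i a = i 0 by rw [map_zero, h4, h3]), zero_tmul]

/-- The kernel on each level for a flat unramified point. -/
theorem mem_pow_of_flat [Module.Flat R S] (hm : (maximalIdeal R).map (algebraMap R S) = maximalIdeal S)
    (n : ℕ) (r : R) (hr : algebraMap R S r ∈ maximalIdeal S ^ n) : r ∈ maximalIdeal R ^ n := by
  haveI : Module.FaithfullyFlat R S := Module.FaithfullyFlat.of_flat_of_isLocalHom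
  rw [← Ideal.comap_map_eq_self_of_faithfullyFlat (B := S) (maximalIdeal R ^ n), Ideal.mem_comap, Ideal.map_pow, hm]
  exact hr

end Alg

end Groth.Agent.H10Cons

namespace Groth.Agent.H10Cons

open AlgebraicGeometry CategoryTheory

/-- The characterisation of unramified points with trivial residue extension. -/
theorem unramified_iff_levels {X Y : Scheme.{u}} (f : X ⟶ Y) [LocallyOfFiniteType f] [IsLocallyNoetherian Y]
    (x : X) (hk : Function.Surjective (f.residueFieldMap x) ∨ IsSepClosed (Y.residueField (f x))) :
    (f.stalkMap x).hom.FormallyUnramified ↔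
      ∀ n : ℕ, ∀ s : X.presheaf.stalk x, ∃ r, s - (f.stalkMap x).hom r ∈ maximalIdeal (X.presheaf.stalk x) ^ n := by
  haveI : IsLocallyNoetherian X := LocallyOfFiniteType.isLocallyNoetherian f
  letI := (f.stalkMap x).hom.toAlgebra
  haveI : IsLocalHom (algebraMap (Y.presheaf.stalk (f x)) (X.presheaf.stalk x)) :=
    inferInstanceAs <| IsLocalHom (f.stalkMap x).hom
  have hnat : ∀ r, (f.residueFieldMap x).hom (IsLocalRing.residue _ r) = IsLocalRing.residue _ ((f.stalkMap x).hom r) :=
    fun r => congrArg (fun φ => φ.hom r) (Scheme.residue_residueFieldMap f x)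
  constructor
  · intro h
    obtain ⟨hsep, hm⟩ := (FlatLocal.formallyUnramified_stalkMap_iff f x).mp h
    have hsur : Function.Surjective (f.residueFieldMap x) := by
      rcases hk with hk | hk
      · exact hk
      · letI := (f.residueFieldMap x).hom.toAlgebra
        haveI := hsep
        haveI := hk
        exact IsSepClosed.algebraMap_surjective (Y.residueField (f x)) (X.residueField x)
    refine fun n => surjective_levels (fun s => ?_) hm n
    obtain ⟨z, hz⟩ := hsur (IsLocalRing.residue _ s)
    obtain ⟨r, rfl⟩ := IsLocalRing.residue_surjective z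
    refine ⟨r, ?_⟩
    have hz' := (hnat r).symm.trans hz
    exact Ideal.Quotient.eq.mp hz'.symm
  · intro h
    refine (FlatLocal.formallyUnramified_stalkMap_iff f x).mpr ⟨?_, map_maximalIdeal_eq_of_levels (h 2)⟩
    letI := (f.residueFieldMap x).hom.toAlgebra
    have hsur : Function.Surjective (algebraMap (Y.residueField (f x)) (X.residueField x)) := fun z => by
      obtain ⟨s, rfl⟩ := IsLocalRing.residue_surjective z
      obtain ⟨r, hr⟩ := h 1 s
      refine ⟨IsLocalRing.residue _ r, (hnat r).trans (Ideal.Quotient.eq.mpr ?_).symm⟩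
      rw [pow_one] at hr
      exact hr
    exact ⟨fun z => by
      obtain ⟨y, rfl⟩ := hsur z
      exact isSeparable_algebraMap y⟩

end Groth.Agent.H10Cons
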